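import Cfsg.Agent.Lib.Recog.AltSubconstituent.Paired
import Cfsg.Agent.Lib.Recog.ThompsonWielandtResidual
import Cfsg.Agent.Lib.Recog.Sims.LocalShape
import Cfsg.Agent.Lib.Classical.Dihedral
import Cfsg.Agent.Lib.Coprime.Basic

/-!
# Sims: primitive groups with a suborbit of length three
-/

set_option autoImplicit false
set_option linter.style.haveILetI false
set_option linter.unusedSectionVars false
set_option maxHeartbeats 800000

open scoped Pointwise
open MulAction CfsgLib.Recog.TW CfsgLib.Base Cfsg CfsgLib.Recog.AltSub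

namespace CfsgLib.Recog.Sims

variable {G Ω : Type*} [Group G] [Finite G] [MulAction G Ω] [Finite Ω]

theorem odd_mem_orbitKer (a b : Ω) (h3 : Nat.card (orbit (stabilizer G a) b) = 3) {x : G}
    (hx : x ∈ stabilizer G a ⊓ stabilizer G b) (hodd : (orderOf x).Coprime 2) :
    x ∈ orbitKer G a b := by
  have h1 : orderOf (restHom G a b ⟨x, hx⟩) ∣ 2 := by
    refine orderOf_dvd_natCard _ |>.trans ?_
    rw [Nat.card_perm, card_rest_set a b 3 h3]
    norm_num
  have h2 : orderOf (restHom G a b ⟨x, hx⟩) ∣ orderOf x := by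
    have := orderOf_map_dvd (restHom G a b) (⟨x, hx⟩ : ↥(stabilizer G a ⊓ stabilizer G b))
    rwa [Subgroup.orderOf_mk] at this
  have h4 : (⟨x, hx⟩ : ↥(stabilizer G a ⊓ stabilizer G b)) ∈ (restHom G a b).ker :=
    orderOf_eq_one_iff.mp (Nat.eq_one_of_dvd_coprimes hodd h2 h1)
  rw [ker_restHom, Subgroup.mem_subgroupOf] at h4
  exact h4

theorem isPGroup_inf [FaithfulSMul G Ω] [IsPreprimitive G Ω] (a b : Ω)
    (h3 : Nat.card (orbit (stabilizer G a) b) = 3) :
    IsPGroup 2 ↥(stabilizer G a ⊓ stabilizer G b) := by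
  haveI := Fact.mk Nat.prime_two
  have h := hyp_stabilizer (G := G) (a := a) (b := b) (by omega)
  have h3' : Nat.card (orbit (stabilizer G b) a) = 3 := by
    rw [card_orbit_stabilizer_symm b a, h3]
  by_contra hI
  apply opGen_ne_bot hI
  set R := opGen 2 (stabilizer G a ⊓ stabilizer G b) with hR
  have key : ∀ (u v : Ω), Nat.card (orbit (stabilizer G u) v) = 3 →
      stabilizer G u ⊓ stabilizer G v = stabilizer G a ⊓ stabilizer G b →
      stabilizer G u ≤ Subgroup.normalizer (R : Set G) := by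
    intro u v huv heq
    have hRK : R = opGen 2 (orbitKer G u v) := by
      refine le_antisymm ((Subgroup.closure_le _).mpr fun x hx => ?_) ((Subgroup.closure_le _).mpr fun x hx => ?_)
      · exact Subgroup.subset_closure ⟨odd_mem_orbitKer u v huv (heq.ge hx.1) hx.2, hx.2⟩
      · exact Subgroup.subset_closure ⟨heq.le (orbitKer_le_inf u v hx.1), hx.2⟩
    rw [hRK]
    exact le_normalizer_opGen 2 (le_normalizer_orbitKer u v)
  exact h.eq_bot_of_normalized ((opGen_le _ _).trans inf_le_left) (key a b h3 rfl)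
    (key b a h3' (inf_comm _ _))

theorem sym_three_facts :
    (∀ x : Equiv.Perm (Fin 3), x * x = 1 → x ≠ 1 → ∃ y, y * x * y⁻¹ ≠ x) ∧
    (∀ x : Equiv.Perm (Fin 3), x ^ 4 = 1 → x * x = 1) ∧
    (∀ s x : Equiv.Perm (Fin 3), s * s = 1 → s ≠ 1 → x ^ 3 = 1 → x ≠ 1 →
      s * x * s⁻¹ = x⁻¹ ∧ s * x ≠ x * s) := by
  refine ⟨?_, ?_, ?_⟩
  · decide
  · decide
  · have h1 : ∀ s x : Equiv.Perm (Fin 3), s * s = 1 ∧ s ≠ 1 ∧ x ^ 3 = 1 → x = 1 ∨
        (s * x * s⁻¹ = x⁻¹ ∧ ¬ s * x = x * s) := by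
      decide
    exact fun s x a b c d => (h1 s x ⟨a, b, c⟩).resolve_left d

theorem pCore_perm_three : pCore 2 (Equiv.Perm (Fin 3)) = ⊥ := by
  haveI := Fact.mk Nat.prime_two
  by_contra hne
  obtain ⟨k, hk⟩ := pCore_eq_pow_card 2 (Equiv.Perm (Fin 3))
  have hdvd := Subgroup.card_subgroup_dvd_card (pCore 2 (Equiv.Perm (Fin 3)))
  rw [hk, Nat.card_perm, Nat.card_fin] at hdvd
  have hk1 : k = 1 := by
    have hk0 : k ≠ 0 := by
      rintro rfl
      exact hne (Subgroup.eq_bot_of_card_eq _ (by simpa using hk))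
    by_contra h
    have : 4 ∣ 2 ^ k := (pow_dvd_pow 2 (show 2 ≤ k by omega) : 2 ^ 2 ∣ 2 ^ k)
    have := this.trans hdvd
    norm_num [Nat.factorial] at this
  subst hk1
  obtain ⟨x, hx, hx1⟩ := (Subgroup.bot_or_exists_ne_one _).resolve_left hne
  have hxx : x * x = 1 := by
    have := orderOf_dvd_natCard (⟨x, hx⟩ : pCore 2 (Equiv.Perm (Fin 3)))
    rw [hk, orderOf_dvd_iff_pow_eq_one] at this
    simpa [pow_two] using congrArg Subtype.val this
  obtain ⟨y, hy⟩ := sym_three_facts.1 x hxx hx1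
  haveI : (pCore 2 (Equiv.Perm (Fin 3))).Normal := inferInstance
  have hy' : y * x * y⁻¹ ∈ pCore 2 (Equiv.Perm (Fin 3)) :=
    ‹(pCore 2 (Equiv.Perm (Fin 3))).Normal›.conj_mem x hx y
  rw [pow_one, Nat.card_eq_two_iff' (1 : pCore 2 (Equiv.Perm (Fin 3)))] at hk
  obtain ⟨u, -, huniq⟩ := hk
  have e1 := huniq ⟨x, hx⟩ (fun h => hx1 (congrArg Subtype.val h))
  have e2 := huniq ⟨_, hy'⟩ (fun h => hx1 (by simpa using congrArg Subtype.val h))
  exact hy (congrArg Subtype.val (e2.trans e1.symm))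

theorem nonempty_perm_three_dihedral : Nonempty (Equiv.Perm (Fin 3) ≃* DihedralGroup 3) := by
  refine CfsgLib.Classical.nonempty_mulEquiv_dihedralGroup (x := finRotate 3) (s := Equiv.swap 0 1)
    (by norm_num) ?_ (by decide) (by decide) ?_ (by rw [Nat.card_perm, Nat.card_fin]; rfl)
  · haveI := Fact.mk Nat.prime_three
    exact orderOf_eq_prime (by decide) (by decide)
  · intro h
    obtain ⟨n, hn⟩ := (isOfFinOrder_of_finite (finRotate 3)).mem_powers_iff_mem_zpowers.mpr h
    have hc : Commute (finRotate 3 ^ n) (finRotate 3) := Commute.pow_self _ n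
    rw [show finRotate 3 ^ n = Equiv.swap 0 1 from hn] at hc
    exact absurd hc.eq (by decide)

/-- The point stabiliser of a primitive group with a suborbit of length three. -/
theorem trivalent_cases [FaithfulSMul G Ω] [IsPreprimitive G Ω] (a b : Ω)
    (h3 : Nat.card (orbit (stabilizer G a) b) = 3) :
    Nonempty (stabilizer G a ≃* Multiplicative (ZMod 3)) ∨
      Nonempty (stabilizer G a ≃* Equiv.Perm (Fin 3)) ∨
      Nonempty (stabilizer G a ≃* DihedralGroup 6) ∨ Nonempty (stabilizer G a ≃* Equiv.Perm (Fin 4)) ∨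
      Nonempty (stabilizer G a ≃* Equiv.Perm (Fin 4) × Multiplicative (ZMod 2)) := by
  classical
  haveI := Fact.mk Nat.prime_two
  haveI := Fact.mk Nat.prime_three
  have hyp := hyp_stabilizer (G := G) (a := a) (b := b) (by omega)
  have hIp := isPGroup_inf (G := G) a b h3
  set M := stabilizer G a with hM
  set N := stabilizer G b with hN
  set I := M ⊓ N with hI
  set K := orbitKer G a b with hK
  have hKI : K ≤ I := orbitKer_le_inf a b
  have hMI : Nat.card M = 3 * Nat.card I := by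
    rw [hM, card_stabilizer_eq_card_orbit_mul a b, h3]
  obtain ⟨k, hk⟩ := IsPGroup.iff_card.mp hIp
  set e₁ := (Finite.equivFinOfCardEq h3).permCongrHom with he₁
  set φ := e₁.toMonoidHom.comp (toPermHom M (orbit M b)) with hφ
  have hkφ : φ.ker = K.subgroupOf M := by
    rw [hK, ← ker_toPermHom_orbit a b]
    ext x
    rw [MonoidHom.mem_ker, MonoidHom.mem_ker]
    exact e₁.map_eq_one_iff
  have hKM : K ≤ M := inf_le_left
  have hKp : IsPGroup 2 K := hIp.to_le hKI
  obtain ⟨j, hj⟩ := IsPGroup.iff_card.mp hKp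
  have hcardK : Nat.card K * Nat.card φ.range = 3 * Nat.card I := by
    have h1 := Subgroup.card_mul_index φ.ker
    rw [Subgroup.index_ker, hkφ, card_subgroupOf hKM, hMI] at h1
    exact h1
  have h6 : Nat.card φ.range ∣ 6 := by
    refine (Subgroup.card_subgroup_dvd_card _).trans ?_
    rw [Nat.card_perm, Nat.card_fin]
    decide
  have h3dvd : 3 ∣ Nat.card φ.range := by
    refine (Nat.Coprime.dvd_mul_left ?_).mp (hcardK ▸ dvd_mul_right 3 _)
    rw [hj]
    exact Nat.Coprime.pow_right _ (by norm_num)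
  -- an element normalising the two-point stabiliser and moving `a` to `b`
  obtain ⟨g, hg, hgab⟩ : ∃ g ∈ Subgroup.normalizer (I : Set G), g • a = b := by
    obtain ⟨g, hg⟩ := MulAction.exists_smul_eq G a b
    have hIN : I ≤ N := inf_le_right
    set J := I.map (MulAut.conj g).toMonoidHom with hJ
    have hJN : J ≤ N := by
      rintro _ ⟨x, hx, rfl⟩
      show (g * x * g⁻¹) • b = b
      rw [← hg, mul_smul, mul_smul, inv_smul_smul, mem_stabilizer_iff.mp hx.1]
    have hNI : Nat.card N = 3 * Nat.card I := by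
      rw [hN, ← card_stabilizer_eq a b]; exact hMI
    have hsyl : ∀ X : Subgroup G, X ≤ N → Nat.card X = Nat.card I → IsPGroup 2 X →
        ∃ S : Sylow 2 N, (S : Subgroup N) = X.subgroupOf N := by
      intro X hXN hXc hXp
      obtain ⟨S, hS⟩ := (hXp.comap_of_injective N.subtype N.subtype_injective).exists_le_sylow
      refine ⟨S, (Subgroup.eq_of_le_of_card_ge hS ?_).symm⟩
      obtain ⟨s, hs⟩ := IsPGroup.iff_card.mp S.isPGroup'
      rw [hs, show Nat.card (Subgroup.comap N.subtype X) = Nat.card X from card_subgroupOf hXN, hXc, hk]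
      have h1 := Subgroup.card_subgroup_dvd_card (S : Subgroup N)
      rw [hs, hNI, hk] at h1
      exact Nat.le_of_dvd (pow_pos two_pos k)
        ((Nat.Coprime.pow_left s (by norm_num : Nat.Coprime 2 3)).dvd_of_dvd_mul_left h1)
    obtain ⟨S, hS⟩ := hsyl I hIN rfl hIp
    obtain ⟨S', hS'⟩ := hsyl J hJN (card_map_conj g I) (hIp.map _)
    obtain ⟨n, hn⟩ := MulAction.exists_smul_eq N S' S
    refine ⟨(n : G) * g, ?_, by rw [mul_smul, hg]; exact n.2⟩
    rw [← map_conj_eq_self_iff]
    refine Subgroup.eq_of_le_of_card_ge ?_ (card_map_conj _ I).ge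
    rintro _ ⟨x, hx, rfl⟩
    have h1 : (⟨g * x * g⁻¹, hJN (Subgroup.mem_map_of_mem _ hx)⟩ : N) ∈ (S' : Subgroup N) := by
      rw [hS']
      exact Subgroup.mem_subgroupOf.mpr (Subgroup.mem_map_of_mem _ hx)
    have h2 : n * ⟨g * x * g⁻¹, hJN (Subgroup.mem_map_of_mem _ hx)⟩ * n⁻¹ ∈ (S : Subgroup N) := by
      rw [← hn, Sylow.coe_subgroup_smul]
      exact Subgroup.smul_mem_pointwise_smul _ (MulAut.conj n) _ h1
    rw [hS, Subgroup.mem_subgroupOf] at h2
    show (n : G) * g * x * ((n : G) * g)⁻¹ ∈ I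
    simpa [mul_assoc] using h2
  have hgM : g ∉ M := fun hgm => hyp.ne (by
    rw [hM, hN, ← hgab, mem_stabilizer_iff.mp hgm])
  have hconjM : M.map (MulAut.conj g).toMonoidHom = N := by
    rw [hM, hN, ← hgab, stabilizer_smul_eq_stabilizer_map_conj]
  -- what `M` and `g` both normalise is trivial
  have hnorm : ∀ X : Subgroup G, X ≤ M → M ≤ Subgroup.normalizer (X : Set G) →
      g ∈ Subgroup.normalizer (X : Set G) → X = ⊥ := by
    intro X hX h1 h2
    by_contra hne
    exact hgM ((normalizer_eq hyp.hM hyp.cM hX hne h1).le h2)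
  obtain ⟨t, ht⟩ := h3dvd
  have ht2 : t ∣ 2 := Nat.dvd_of_mul_dvd_mul_left (by norm_num : 0 < 3) (ht ▸ h6 : 3 * t ∣ 3 * 2)
  rcases (Nat.dvd_prime Nat.prime_two).mp ht2 with rfl | rfl
  · -- a cyclic image: the kernel is the two-point stabiliser
    left
    have hKeq : K = I := Subgroup.eq_of_le_of_card_ge hKI (by rw [ht] at hcardK; omega)
    have hMIn : M ≤ Subgroup.normalizer (I : Set G) := hKeq ▸ le_normalizer_orbitKer a b
    have h0 : I = ⊥ := hnorm I inf_le_left hMIn hg
    have hc : Nat.card M = 3 := by rw [hMI, h0, Subgroup.card_bot]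
    haveI : IsCyclic M := isCyclic_of_prime_card hc
    exact ⟨mulEquivOfCyclicCardEq (by rw [hc]; simp)⟩
  right
  have hφs : Function.Surjective φ := by
    rw [← MonoidHom.range_eq_top]
    refine Subgroup.eq_top_of_card_eq _ ?_
    rw [ht, Nat.card_perm, Nat.card_fin]; rfl
  have hKcard : Nat.card I = 2 * Nat.card K := by rw [ht] at hcardK; omega
  have hQ : pCore 2 ↥M = φ.ker := by
    refine le_antisymm ?_ (le_pCore ?_)
    · rw [← Subgroup.map_eq_bot_iff, eq_bot_iff, ← pCore_perm_three]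
      haveI : ((pCore 2 ↥M).map φ).Normal := Subgroup.Normal.map inferInstance φ hφs
      exact le_pCore ((isPGroup_pCore 2 ↥M).map φ)
    · rw [hkφ]
      exact hKp.comap_of_injective M.subtype M.subtype_injective
  have hS3 : Nonempty (↥M ⧸ pCore 2 ↥M ≃* DihedralGroup 3) := by
    obtain ⟨e⟩ := nonempty_perm_three_dihedral
    exact ⟨((QuotientGroup.quotientMulEquivOfEq hQ).trans
      (QuotientGroup.quotientKerEquivOfSurjective φ hφs)).trans e⟩
  by_cases hchar : Subgroup.centralizer (pCore 2 ↥M : Set ↥M) ≤ pCore 2 ↥M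
  · -- characteristic two
    obtain ⟨S, hS⟩ := (hIp.comap_of_injective M.subtype M.subtype_injective).exists_le_sylow
    have hSI : (S : Subgroup M).map M.subtype = I := by
      refine (Subgroup.eq_of_le_of_card_ge ?_ ?_).symm
      · have := Subgroup.map_mono (f := M.subtype) hS
        rwa [show Subgroup.comap M.subtype I = I.subgroupOf M from rfl,
          Subgroup.map_subgroupOf_eq_of_le inf_le_left] at this
      · obtain ⟨s, hs⟩ := IsPGroup.iff_card.mp S.isPGroup'
        have h1 := Subgroup.card_subgroup_dvd_card (S : Subgroup M)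
        rw [hs, hMI, hk] at h1
        rw [card_map_subtype, hs, hk]
        exact Nat.le_of_dvd (pow_pos two_pos k)
          ((Nat.Coprime.pow_left s (by norm_num : Nat.Coprime 2 3)).dvd_of_dvd_mul_left h1)
    exact Or.inr (Or.inr (shape_of_maximal M hyp.hM hyp.cM hchar S
      (fun hle => hgM (hle (hSI.symm ▸ hg))) 3 Nat.prime_three hS3))
  -- otherwise an element of order three centralises the kernel
  obtain ⟨x, hxC, hx3⟩ : ∃ x ∈ Subgroup.centralizer (pCore 2 ↥M : Set ↥M), orderOf x = 3 := by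
    set C := Subgroup.centralizer (pCore 2 ↥M : Set ↥M) with hC
    have hdvd : 3 ∣ Nat.card C := by
      by_contra hnd
      refine hchar (le_pCore ?_)
      have hdM : Nat.card C ∣ 2 ^ k * 3 := by
        rw [← hk, mul_comm, ← hMI]; exact Subgroup.card_subgroup_dvd_card C
      have h1 : Nat.card C ∣ 2 ^ k := Nat.Coprime.dvd_of_dvd_mul_right
        ((Nat.prime_three.coprime_iff_not_dvd.mpr hnd).symm) hdM
      obtain ⟨i, -, hi⟩ := (Nat.dvd_prime_pow Nat.prime_two).mp h1
      exact IsPGroup.of_card hi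
    obtain ⟨x, hx⟩ := exists_prime_orderOf_dvd_card' 3 hdvd
    exact ⟨x, x.2, by rw [Subgroup.orderOf_coe]; exact hx⟩
  have hxK : ∀ y ∈ K, y * (x : G) = (x : G) * y := fun y hy => congrArg Subtype.val
    (Subgroup.mem_centralizer_iff.mp hxC ⟨y, hKM hy⟩ (by rw [hQ, hkφ]; exact hy))
  have hgen : M ≤ I ⊔ Subgroup.zpowers (x : G) := by
    refine (Subgroup.eq_of_le_of_card_ge (sup_le inf_le_left (Subgroup.zpowers_le.mpr x.2)) ?_).ge
    refine Nat.le_of_dvd Nat.card_pos (hMI ▸ Nat.Coprime.mul_dvd_of_dvd_of_dvd ?_ ?_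
      (Subgroup.card_dvd_of_le le_sup_left))
    · rw [hk]; exact Nat.Coprime.pow_right _ (by norm_num)
    · refine dvd_trans (by rw [Nat.card_zpowers, Subgroup.orderOf_coe, hx3])
        (Subgroup.card_dvd_of_le le_sup_right)
  have hφtt : ∀ t : M, (t : G) ∈ I → φ t * φ t = 1 := by
    intro t ht
    have h1 : orderOf (φ t) ∣ 2 ^ k := by
      refine (orderOf_map_dvd φ t).trans ?_
      rw [← Subgroup.orderOf_coe, ← hk]
      exact Subgroup.orderOf_dvd_natCard I ht
    have h2 : orderOf (φ t) ∣ 6 := by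
      refine (orderOf_dvd_natCard _).trans ?_
      rw [Nat.card_perm, Nat.card_fin]; decide
    refine sym_three_facts.2.1 _ (orderOf_dvd_iff_pow_eq_one.mp ?_)
    obtain ⟨i, -, hi⟩ := (Nat.dvd_prime_pow Nat.prime_two).mp h1
    rw [hi] at h2 ⊢
    have hi2 : i ≤ 2 := by
      by_contra h
      have : 2 ^ 3 ∣ 6 := (pow_dvd_pow 2 (show 3 ≤ i by omega)).trans h2
      norm_num at this
    exact (pow_dvd_pow 2 hi2 : 2 ^ i ∣ 2 ^ 2)
  -- the two-point stabiliser is elementary abelian
  have hsq : ∀ t ∈ I, t * t = 1 := by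
    let X := Subgroup.closure {y : G | ∃ t ∈ I, y = t * t}
    have hXK : X ≤ K := by
      refine (Subgroup.closure_le _).mpr ?_
      rintro _ ⟨t, ht, rfl⟩
      have h1 : (⟨t, ht.1⟩ * ⟨t, ht.1⟩ : M) ∈ φ.ker := by
        rw [MonoidHom.mem_ker, map_mul]
        exact hφtt ⟨t, ht.1⟩ ht
      rw [hkφ] at h1
      exact h1
    have hXn : Subgroup.normalizer (I : Set G) ≤ Subgroup.normalizer (X : Set G) := by
      refine CfsgLib.Components.le_normalizer_of_conj_mem fun h hh y hy => ?_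
      have h1 : X ≤ X.comap (MulAut.conj h).toMonoidHom := by
        refine (Subgroup.closure_le _).mpr ?_
        rintro _ ⟨t, ht, rfl⟩
        refine Subgroup.subset_closure ⟨h * t * h⁻¹, (Subgroup.mem_normalizer_iff.mp hh t).mp ht, ?_⟩
        show h * (t * t) * h⁻¹ = _
        group
      exact h1 hy
    have hX0 : X = ⊥ := by
      refine hnorm X (hXK.trans hKM) (hgen.trans (sup_le (Subgroup.le_normalizer.trans hXn)
        (Subgroup.zpowers_le.mpr (Subgroup.centralizer_le_normalizer _ ?_)))) (hXn hg)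
      exact Subgroup.mem_centralizer_iff.mpr fun y hy => hxK y (hXK hy)
    intro t ht
    exact Subgroup.mem_bot.mp (hX0 ▸ Subgroup.subset_closure ⟨t, ht, rfl⟩)
  have hab : ∀ s ∈ I, ∀ t ∈ I, s * t = t * s := by
    intro s hs t ht
    have h := hsq _ (mul_mem hs ht)
    calc s * t = (s * t)⁻¹ := (inv_eq_of_mul_eq_one_right h).symm
      _ = t * s := by rw [mul_inv_rev, inv_eq_of_mul_eq_one_right (hsq s hs),
            inv_eq_of_mul_eq_one_right (hsq t ht)]
  have hMC : M ≤ Subgroup.centralizer (K : Set G) :=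
    hgen.trans (sup_le (fun t ht => Subgroup.mem_centralizer_iff.mpr fun y hy => hab y (hKI hy) t ht)
      (Subgroup.zpowers_le.mpr (Subgroup.mem_centralizer_iff.mpr hxK)))
  set Kg := K.map (MulAut.conj g).toMonoidHom with hKg
  have hKgI : Kg ≤ I := (map_conj_eq_self_iff.mpr hg) ▸ Subgroup.map_mono hKI
  have hinter : K ⊓ Kg = ⊥ := by
    refine hyp.eq_bot_of_normalized (inf_le_left.trans hKM)
      (hMC.trans ((Subgroup.centralizer_le inf_le_left).trans (Subgroup.centralizer_le_normalizer _))) ?_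
    refine le_trans ?_ ((Subgroup.centralizer_le inf_le_right).trans (Subgroup.centralizer_le_normalizer _))
    rw [← hconjM]
    rintro _ ⟨m, hm, rfl⟩
    refine Subgroup.mem_centralizer_iff.mpr ?_
    rintro _ ⟨y, hy, rfl⟩
    rw [← map_mul, ← map_mul, Subgroup.mem_centralizer_iff.mp (hMC hm) y hy]
  have hK2 : Nat.card K ≤ 2 := by
    have h1 := CfsgLib.Coprime.card_sup_mul_card_inf (H := K) (N := Kg)
      (fun y hy => Subgroup.centralizer_le_normalizer _
        (Subgroup.mem_centralizer_iff.mpr fun z hz => hab z (hKgI hz) y (hKI hy)))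
    rw [hinter, Subgroup.card_bot, mul_one, card_map_conj] at h1
    have h2 := Subgroup.card_le_of_le (sup_le hKI hKgI)
    rw [h1, hKcard] at h2
    exact Nat.le_of_mul_le_mul_right h2 Nat.card_pos
  rcases Nat.lt_or_ge (Nat.card K) 2 with hK1 | hK1
  · left
    have : K = ⊥ := Subgroup.eq_bot_of_card_le _ (by omega)
    refine ⟨MulEquiv.ofBijective φ ⟨(MonoidHom.ker_eq_bot_iff φ).mp ?_, hφs⟩⟩
    rw [hkφ, this, Subgroup.bot_subgroupOf]
  right; left
  have hK2' : Nat.card K = 2 := by omega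
  obtain ⟨z, hz, hz1⟩ : ∃ z ∈ K, z ≠ 1 := (Subgroup.bot_or_exists_ne_one K).resolve_left fun h => by
    rw [h, Subgroup.card_bot] at hK2'; omega
  obtain ⟨s, hs, hsK⟩ : ∃ s ∈ I, s ∉ K := SetLike.not_le_iff_exists.mp fun hle => by
    have := Subgroup.card_le_of_le hle; omega
  set zm : M := ⟨z, hKM hz⟩ with hzm
  set sm : M := ⟨s, hs.1⟩ with hsm
  have hzx : Commute zm x := Subtype.ext (hxK z hz)
  have hzo : orderOf zm = 2 := orderOf_eq_prime (Subtype.ext (by rw [pow_two]; exact hsq z (hKI hz)))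
    (fun h => hz1 (congrArg Subtype.val h))
  have hsφ : φ sm ≠ 1 := fun h => hsK (by
    have h' : sm ∈ φ.ker := h
    rw [hkφ] at h'
    exact h')
  have hxφ : φ x ≠ 1 := fun h => by
    have h' : x ∈ φ.ker := h
    rw [hkφ] at h'
    have h4 := Subgroup.orderOf_dvd_natCard K (Subgroup.mem_subgroupOf.mp h')
    rw [Subgroup.orderOf_coe, hx3, hK2'] at h4
    norm_num at h4
  have hx31 : x ^ 3 = 1 := hx3 ▸ pow_orderOf_eq_one x
  obtain ⟨hinv, hnc⟩ := sym_three_facts.2.2 (φ sm) (φ x) (hφtt sm hs) hsφ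
    (by rw [← map_pow, hx31, map_one]) hxφ
  have hss : sm * sm = 1 := Subtype.ext (hsq s hs)
  have hsx : sm * x * sm⁻¹ = x⁻¹ := by
    set k₀ := x * (sm * x * sm⁻¹) with hk₀
    have hk₀K : (k₀ : G) ∈ K := by
      have : k₀ ∈ φ.ker := by
        rw [MonoidHom.mem_ker, hk₀, map_mul, map_mul, map_mul, map_inv, hinv, mul_inv_cancel]
      rwa [hkφ] at this
    have hk₀c : Commute k₀ x⁻¹ := (show Commute k₀ x from Subtype.ext (hxK _ hk₀K)).inv_right
    have e : x⁻¹ * k₀ = sm * x * sm⁻¹ := by rw [hk₀]; group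
    have h3' : (x⁻¹ * k₀) ^ 3 = 1 := by rw [e, conj_pow, hx31, mul_one, mul_inv_cancel]
    rw [(hk₀c.symm).mul_pow, inv_pow, hx31, inv_one, one_mul] at h3'
    have hk2 : k₀ * k₀ = 1 := Subtype.ext (hsq _ (hKI hk₀K))
    have : k₀ = 1 := by
      rwa [pow_succ, pow_two, hk2, one_mul] at h3'
    rw [← e, this, mul_one]
  refine CfsgLib.Classical.nonempty_mulEquiv_dihedralGroup (x := zm * x) (s := sm) (by norm_num)
    ?_ hss ?_ ?_ (by rw [hMI, hKcard, hK2'])
  · rw [hzx.orderOf_mul_eq_mul_orderOf_of_coprime (by rw [hzo, hx3]; norm_num), hzo, hx3]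
  · have e1 : sm * zm * sm⁻¹ = zm := by
      rw [show sm * zm = zm * sm from Subtype.ext (hab s hs z (hKI hz)), mul_inv_cancel_right]
    have e2 : zm⁻¹ = zm := inv_eq_of_mul_eq_one_right (Subtype.ext (hsq z (hKI hz)))
    calc sm * (zm * x) * sm⁻¹ = (sm * zm * sm⁻¹) * (sm * x * sm⁻¹) := by group
      _ = zm * x⁻¹ := by rw [e1, hsx]
      _ = (zm * x)⁻¹ := by rw [mul_inv_rev, e2, (hzx.inv_right).eq]
  · intro hmem
    obtain ⟨n, hn⟩ := hmem
    apply hnc
    rw [← map_mul, ← map_mul]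
    congr 1
    have hc : Commute ((zm * x) ^ n) x := ((hzx.mul_left (Commute.refl x))).zpow_left n
    rw [show (zm * x) ^ n = sm from hn] at hc
    exact hc.eq

end CfsgLib.Recog.Sims
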